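import Cfsg.Agent.Mult.Slices
import Cfsg.Agent.Inv.Cent
import Cfsg.Agent.AltC.A6Pres

set_option autoImplicit false
set_option Elab.async false
set_option maxRecDepth 100000
set_option linter.all false

namespace Cfsg.Agent.AltC
open Cfsg.Agent.CGT

open Cfsg.Agent.Mult

noncomputable def a6_n0 : Net := Net.cons 1 0x1 <|
  Net.cons 4 0x2 <|
  Net.nil
noncomputable def a6_n1 : Net := Net.cons 4 0x2 <|
  Net.cons 1 0x10 <|
  Net.cons 4 0x3 <|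
  Net.nil
noncomputable def a6_n2 : Net := Net.cons 1 0x1 <|
  Net.cons 2 0x2 <|
  Net.nil
noncomputable def a6_n3 : Net := Net.cons 2 0x2 <|
  Net.cons 1 0x4 <|
  Net.cons 2 0x3 <|
  Net.nil
noncomputable def a6_ns : List Net := [a6_n0, a6_n1, a6_n2, a6_n3]
noncomputable def a6_R : List (List ℕ) := []
noncomputable def a6_t0 : Tab := (.leaf 0xf846a9)
noncomputable def a6_t1 : Tab := (.leaf 0xf8c685)
noncomputable def a6_t2 : Tab := (.leaf 0xfa86a1)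
noncomputable def a6_t3 : Tab := (.leaf 0xfa9684)
noncomputable def a6_t4 : Tab := (.leaf 0xfac099)
noncomputable def a6_t5 : Tab := (.leaf 0xfac283)
noncomputable def a6_t6 : Tab := (.leaf 0xfac611)
noncomputable def a6_t7 : Tab := (.leaf 0xfac642)
noncomputable def a6_ts : List Tab := [a6_t0, a6_t1, a6_t2, a6_t3, a6_t4, a6_t5, a6_t6, a6_t7]
theorem a6_v : validAll (2 ^ 3) a6_ns = true := by decide +kernel
theorem a6_t0_b : Tab.beq (mkTab 3 0 a6_ns 0) a6_t0 = true := by decide +kernel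
theorem a6_t1_b : Tab.beq (mkTab 3 0 a6_ns 1) a6_t1 = true := by decide +kernel
theorem a6_t2_b : Tab.beq (mkTab 3 0 a6_ns 2) a6_t2 = true := by decide +kernel
theorem a6_t3_b : Tab.beq (mkTab 3 0 a6_ns 3) a6_t3 = true := by decide +kernel
theorem a6_t4_b : Tab.beq (mkTab 3 0 a6_ns 4) a6_t4 = true := by decide +kernel
theorem a6_t5_b : Tab.beq (mkTab 3 0 a6_ns 5) a6_t5 = true := by decide +kernel
theorem a6_t6_b : Tab.beq (mkTab 3 0 a6_ns 6) a6_t6 = true := by decide +kernel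
theorem a6_t7_b : Tab.beq (mkTab 3 0 a6_ns 7) a6_t7 = true := by decide +kernel
theorem a6_ts_ok : TabsOK 3 (lp a6_ns) a6_ts :=
  TabsFrom.ok ⟨TabOK.of_beq a6_v a6_t0_b,
    TabOK.of_beq a6_v a6_t1_b,
    TabOK.of_beq a6_v a6_t2_b,
    TabOK.of_beq a6_v a6_t3_b,
    TabOK.of_beq a6_v a6_t4_b,
    TabOK.of_beq a6_v a6_t5_b,
    TabOK.of_beq a6_v a6_t6_b,
    TabOK.of_beq a6_v a6_t7_b,
    Nat.le_of_ble_eq_true (by decide +kernel)⟩
noncomputable def a6c_l0 : Level := ⟨5, [[0], [2], [4], [6]], [0, 0, 1, 2, 3], 0x3f, 6⟩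
noncomputable def a6c_l1 : Level := ⟨4, [[2], [4], [6]], [0, 0, 1, 2], 0x1f, 5⟩
noncomputable def a6c_l2 : Level := ⟨3, [[4], [6]], [0, 0, 1], 0xf, 4⟩
noncomputable def a6c_l3 : Level := ⟨0, [[6]], [0, 0], 0x7, 3⟩
noncomputable def a6c_ls : List Level := [a6c_l0, a6c_l1, a6c_l2, a6c_l3]
theorem a6c_l0_ok : (ptsOK 3 [] && (wordsIn [0, 2, 4, 6] a6c_l0.S && a6c_l0.ok 3 a6_ns a6_ts [])) = true := by decide +kernel
theorem a6c_l1_ok : (ptsOK 3 [5] && (wordsIn [0, 2, 4, 6] a6c_l1.S && a6c_l1.ok 3 a6_ns a6_ts [5])) = true := by decide +kernel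
theorem a6c_l2_ok : (ptsOK 3 [4, 5] && (wordsIn [0, 2, 4, 6] a6c_l2.S && a6c_l2.ok 3 a6_ns a6_ts [4, 5])) = true := by decide +kernel
theorem a6c_l3_ok : (ptsOK 3 [3, 4, 5] && (wordsIn [0, 2, 4, 6] a6c_l3.S && a6c_l3.ok 3 a6_ns a6_ts [3, 4, 5])) = true := by decide +kernel
theorem a6c_sound {G : Type*} [Group G] {φ : G →* Equiv.Perm ℕ} {γ : ℕ → G}
    (M : Model φ γ 3 a6_ns a6_ts) : ChainSound φ (gp γ [0, 2, 4, 6]) 3 [] a6c_ls :=
  ⟨Level.ok_sound' M a6c_l0_ok,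
   Level.ok_sound' M a6c_l1_ok,
   Level.ok_sound' M a6c_l2_ok,
   Level.ok_sound' M a6c_l3_ok, trivial⟩
noncomputable def a6_gs : List (alternatingGroup (Fin 6)) := [⟨⟨![1, 5, 2, 3, 4, 0], ![5, 0, 2, 3, 4, 1], by decide, by decide⟩, Equiv.Perm.mem_alternatingGroup.2 (by decide +kernel)⟩,
  ⟨⟨![1, 4, 2, 3, 0, 5], ![4, 0, 2, 3, 1, 5], by decide, by decide⟩, Equiv.Perm.mem_alternatingGroup.2 (by decide +kernel)⟩,
  ⟨⟨![1, 3, 2, 0, 4, 5], ![3, 0, 2, 1, 4, 5], by decide, by decide⟩, Equiv.Perm.mem_alternatingGroup.2 (by decide +kernel)⟩,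
  ⟨⟨![1, 2, 0, 3, 4, 5], ![2, 0, 1, 3, 4, 5], by decide, by decide⟩, Equiv.Perm.mem_alternatingGroup.2 (by decide +kernel)⟩]
theorem a6_card : Nat.card (alternatingGroup (Fin 6)) = 360 := by
  have := two_mul_nat_card_alternatingGroup (α := Fin 6)
  rw [Nat.card_perm, Nat.card_fin] at this
  simp only [Nat.factorial] at this
  omega
theorem a6_cert : ∃ φ, CGT.Cert φ (fun j => a6_gs.getD j 1) 3 a6_ns a6_ts [0, 2, 4, 6] a6c_ls :=
  Inv.cert_of_act (Fin.ofNat 6) (N := 6) (by decide) a6_v a6_ts_ok rfl (by decide +kernel) (by decide +kernel) a6c_sound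
    ⟨inferInstance, a6_card.le⟩ (by decide +kernel)
noncomputable def a6u2_D : PC := ⟨2, 3, 2, 18,
  [[0, 0x14, 0x10], [0, 0x10, 0x10], [0, 0, 0]],
  [3, 0, 0],
  [(3, 1, 0x10), (4, 5, 0x10)], 7, 0x2000001⟩
noncomputable def a6u2_ds : List (List ℕ) := [[3, 6, 3, 0], [3, 5, 7, 0], [1, 2, 1, 6], [1, 2, 7, 5], [5, 7]]
noncomputable def a6u2_c : Mult.Cert := ⟨14, 15, [[], [], [1]],
  [([4, 4, 8], 1, 0x60)],
  [[5, 0, 9], [0, 0x27, 0x20], [0, 0, 1]]⟩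
theorem a6u2_all : allB a6u2_D a6u2_c [.assoc 4 4 4, .assoc 0x10 1 1, .assoc 4 1 1, .fus 3 [0, 0] [], .fus 4 [1, 1] []] 3 a6_ts a6u2_ds [0, 3, 4, 5] [(0, [4]), (1, [0x10, 1])] = true := by decide +kernel
theorem a6u2_pb {G : Type*} [Group G] [Finite G] {φ : G →* Equiv.Perm ℕ} {γ : ℕ → G}
    (M : Model φ γ 3 a6_ns a6_ts) (hB : IsBase φ ⊤ [0, 3, 4, 5]) (hN : Nat.card G = 360) : PBound G 2 1 :=
  pbound_all M hB hN (by decide +kernel) (by decide +kernel) a6u2_all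
noncomputable def a6u3_D : PC := ⟨3, 2, 2, 21,
  [[0, 4], [0, 0]],
  [0, 0],
  [(2, 1, 2), (2, 4, 8)], 5, 0x10001⟩
noncomputable def a6u3_ds : List (List ℕ) := [[5, 0], [6, 0, 5, 3], [5, 3, 6, 3]]
noncomputable def a6u3_c : Mult.Cert := ⟨11, 17, [[], []],
  [([1], 1, 0x288)],
  [[9, 2], [0, 3]]⟩
theorem a6u3_all : allB a6u3_D a6u3_c [.assoc 8 4 1, .fus 2 [0, 0, 0] [], .fus 2 [1, 1, 1] []] 3 a6_ts a6u3_ds [0, 3, 4, 5] [(0, [4]), (1, [1])] = true := by decide +kernel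
theorem a6u3_pb {G : Type*} [Group G] [Finite G] {φ : G →* Equiv.Perm ℕ} {γ : ℕ → G}
    (M : Model φ γ 3 a6_ns a6_ts) (hB : IsBase φ ⊤ [0, 3, 4, 5]) (hN : Nat.card G = 360) : PBound G 3 1 :=
  pbound_all M hB hN (by decide +kernel) (by decide +kernel) a6u3_all

end Cfsg.Agent.AltC
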