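import Cfsg.Agent.AltC.A7PresR

set_option autoImplicit false
set_option Elab.async false
set_option maxRecDepth 100000
set_option linter.all false

namespace Cfsg.Agent.AltC
open Cfsg.Agent.CGT

noncomputable def a7l0_n0 : Net := Net.cons 2 0x2 <|
  Net.cons 1 0x4 <|
  Net.cons 2 0x3 <|
  Net.nil
noncomputable def a7l0_n1 : Net := Net.cons 1 0x4 <|
  Net.cons 2 0x2 <|
  Net.nil
noncomputable def a7l0_n2 : Net := Net.cons 4 0x6 <|
  Net.cons 2 0x20 <|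
  Net.cons 1 0x40 <|
  Net.cons 2 0x30 <|
  Net.cons 4 0x6 <|
  Net.nil
noncomputable def a7l0_n3 : Net := Net.cons 4 0x4 <|
  Net.cons 2 0x20 <|
  Net.cons 1 0x40 <|
  Net.cons 2 0x20 <|
  Net.cons 4 0x6 <|
  Net.nil
noncomputable def a7l0_n4 : Net := Net.cons 2 0x2 <|
  Net.cons 1 0x4 <|
  Net.cons 2 0x2 <|
  Net.cons 4 0x4 <|
  Net.nil
noncomputable def a7l0_ns : List Net := [a7l0_n0, a7l0_n1, a7l0_n2, a7l0_n3, a7l0_n4]
noncomputable def a7l0_R : List (List ℕ) := [[8, 8, 8], [6, 6, 6], [6, 8, 6, 8], [4, 4, 4], [4, 6, 4, 6], [4, 8, 4, 8], [2, 2, 2], [2, 4, 2, 4], [2, 6, 2, 6], [2, 8, 2, 8], [0, 0, 0], [0, 2, 0, 2], [0, 4, 0, 4], [0, 6, 0, 6], [0, 8, 0, 8]]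
noncomputable def a7l0_S0 : List (List ℕ) := [[2], [4], [6], [8]]
noncomputable def a7l0_E : Enum := ⟨a7l0_ns, a7l0_R, a7l0_S0, [], 0⟩
theorem a7l0_v : validAll (2 ^ 3) a7l0_ns = true := by decide +kernel
theorem a7l0_p0 : holdsB 3 a7l0_ns a7l0_R = true := by decide +kernel
theorem a7l0_p : Holds (lp a7l0_ns) a7l0_R := holdsB_sound a7l0_v a7l0_p0
theorem a7l0_f : allL a7l0_E.Sub (fixN a7l0_E.ns a7l0_E.b0) = true := by decide +kernel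
theorem a7l0_r0 : a7l0_E.run [2, 1, 6, 5, 10, 9, 18, 17, 26, 25, 34, 33, 3, 9, 7, 17, 11, 25, 15, 33, 40, 1, 4140, 9, 4144, 17, 4148, 25, 4152, 33, 0, 33, 4, 25, 12, 17, 24, 9, 8, 25, 4104, 33, 16, 17, 4112, 25, 20, 17, 4116, 33, 28, 9, 4124, 17, 32, 9, 4128, 25, 36, 9, 4132, 33, 44, 1, 48, 1, 52, 1, 56, 1] (1 <<< 0) (List.replicate 11 0) (Enum.done 7 [0, 2, 4, 6, 8]) = true := by decide +kernel
theorem a7l0_fin {G : Type*} [Group G] {γ : ℕ → G} (hR : Holds (ext γ) a7l0_R) {H : Subgroup G}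
    (hS : ∀ u ∈ a7l0_S0, ev (ext γ) u ∈ H) : a7l0_E.Fin γ H 7 [0, 2, 4, 6, 8] :=
  have hy : a7l0_E.Hyp γ H := Enum.hyp_of a7l0_v hR a7l0_p hS a7l0_f
  (Enum.fin_of_done hy (Enum.inv_init 11) a7l0_r0)
noncomputable def a7l1_n1 : Net := Net.cons 2 0x2 <|
  Net.cons 1 0x4 <|
  Net.cons 2 0x3 <|
  Net.nil
noncomputable def a7l1_n2 : Net := Net.cons 1 0x4 <|
  Net.cons 2 0x2 <|
  Net.nil
noncomputable def a7l1_n3 : Net := Net.cons 4 0x6 <|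
  Net.cons 2 0x20 <|
  Net.cons 1 0x40 <|
  Net.cons 2 0x30 <|
  Net.cons 4 0x6 <|
  Net.nil
noncomputable def a7l1_n4 : Net := Net.cons 4 0x4 <|
  Net.cons 2 0x20 <|
  Net.cons 1 0x40 <|
  Net.cons 2 0x20 <|
  Net.cons 4 0x6 <|
  Net.nil
noncomputable def a7l1_ns : List Net := [Net.nil, a7l1_n1, a7l1_n2, a7l1_n3, a7l1_n4]
noncomputable def a7l1_R : List (List ℕ) := [[8, 8, 8], [6, 6, 6], [6, 8, 6, 8], [4, 4, 4], [4, 6, 4, 6], [4, 8, 4, 8], [2, 2, 2], [2, 4, 2, 4], [2, 6, 2, 6], [2, 8, 2, 8]]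
noncomputable def a7l1_S0 : List (List ℕ) := [[4], [6], [8]]
noncomputable def a7l1_E : Enum := ⟨a7l1_ns, a7l1_R, a7l1_S0, [], 0⟩
theorem a7l1_v : validAll (2 ^ 3) a7l1_ns = true := by decide +kernel
theorem a7l1_p0 : holdsB 3 a7l1_ns a7l1_R = true := by decide +kernel
theorem a7l1_p : Holds (lp a7l1_ns) a7l1_R := holdsB_sound a7l1_v a7l1_p0
theorem a7l1_f : allL a7l1_E.Sub (fixN a7l1_E.ns a7l1_E.b0) = true := by decide +kernel
theorem a7l1_r0 : a7l1_E.run [10, 9, 14, 13, 18, 17, 26, 25, 34, 33, 3, 17, 7, 25, 11, 33, 24, 9, 4124, 17, 4128, 25, 4132, 33, 0, 33, 4, 25, 12, 17, 8, 25, 4104, 33, 16, 17, 4112, 25, 20, 17, 4116, 33, 28, 9, 32, 9, 36, 9] (1 <<< 0) (List.replicate 11 0) (Enum.done 6 [2, 4, 6, 8]) = true := by decide +kernel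
theorem a7l1_fin {G : Type*} [Group G] {γ : ℕ → G} (hR : Holds (ext γ) a7l1_R) {H : Subgroup G}
    (hS : ∀ u ∈ a7l1_S0, ev (ext γ) u ∈ H) : a7l1_E.Fin γ H 6 [2, 4, 6, 8] :=
  have hy : a7l1_E.Hyp γ H := Enum.hyp_of a7l1_v hR a7l1_p hS a7l1_f
  (Enum.fin_of_done hy (Enum.inv_init 11) a7l1_r0)
noncomputable def a7l2_n2 : Net := Net.cons 2 0x2 <|
  Net.cons 1 0x4 <|
  Net.cons 2 0x3 <|
  Net.nil
noncomputable def a7l2_n3 : Net := Net.cons 1 0x4 <|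
  Net.cons 2 0x2 <|
  Net.nil
noncomputable def a7l2_n4 : Net := Net.cons 4 0x6 <|
  Net.cons 2 0x20 <|
  Net.cons 1 0x40 <|
  Net.cons 2 0x30 <|
  Net.cons 4 0x6 <|
  Net.nil
noncomputable def a7l2_ns : List Net := [Net.nil, Net.nil, a7l2_n2, a7l2_n3, a7l2_n4]
noncomputable def a7l2_R : List (List ℕ) := [[8, 8, 8], [6, 6, 6], [6, 8, 6, 8], [4, 4, 4], [4, 6, 4, 6], [4, 8, 4, 8]]
noncomputable def a7l2_S0 : List (List ℕ) := [[6], [8]]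
noncomputable def a7l2_E : Enum := ⟨a7l2_ns, a7l2_R, a7l2_S0, [], 0⟩
theorem a7l2_v : validAll (2 ^ 3) a7l2_ns = true := by decide +kernel
theorem a7l2_p0 : holdsB 3 a7l2_ns a7l2_R = true := by decide +kernel
theorem a7l2_p : Holds (lp a7l2_ns) a7l2_R := holdsB_sound a7l2_v a7l2_p0
theorem a7l2_f : allL a7l2_E.Sub (fixN a7l2_E.ns a7l2_E.b0) = true := by decide +kernel
theorem a7l2_r0 : a7l2_E.run [18, 17, 22, 21, 26, 25, 34, 33, 3, 25, 7, 33, 12, 17, 4112, 25, 4116, 33, 0, 33, 4, 25, 8, 25, 4104, 33, 16, 17, 20, 17] (1 <<< 0) (List.replicate 11 0) (Enum.done 5 [4, 6, 8]) = true := by decide +kernel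
theorem a7l2_fin {G : Type*} [Group G] {γ : ℕ → G} (hR : Holds (ext γ) a7l2_R) {H : Subgroup G}
    (hS : ∀ u ∈ a7l2_S0, ev (ext γ) u ∈ H) : a7l2_E.Fin γ H 5 [4, 6, 8] :=
  have hy : a7l2_E.Hyp γ H := Enum.hyp_of a7l2_v hR a7l2_p hS a7l2_f
  (Enum.fin_of_done hy (Enum.inv_init 11) a7l2_r0)
noncomputable def a7l3_n3 : Net := Net.cons 2 0x2 <|
  Net.cons 1 0x4 <|
  Net.cons 2 0x3 <|
  Net.nil
noncomputable def a7l3_n4 : Net := Net.cons 1 0x4 <|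
  Net.cons 2 0x2 <|
  Net.nil
noncomputable def a7l3_ns : List Net := [Net.nil, Net.nil, Net.nil, a7l3_n3, a7l3_n4]
noncomputable def a7l3_R : List (List ℕ) := [[8, 8, 8], [6, 6, 6], [6, 8, 6, 8]]
noncomputable def a7l3_S0 : List (List ℕ) := [[8]]
noncomputable def a7l3_E : Enum := ⟨a7l3_ns, a7l3_R, a7l3_S0, [], 0⟩
theorem a7l3_v : validAll (2 ^ 3) a7l3_ns = true := by decide +kernel
theorem a7l3_p0 : holdsB 3 a7l3_ns a7l3_R = true := by decide +kernel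
theorem a7l3_p : Holds (lp a7l3_ns) a7l3_R := holdsB_sound a7l3_v a7l3_p0
theorem a7l3_f : allL a7l3_E.Sub (fixN a7l3_E.ns a7l3_E.b0) = true := by decide +kernel
theorem a7l3_r0 : a7l3_E.run [26, 25, 30, 29, 34, 33, 3, 33, 4, 25, 4104, 33, 0, 33, 8, 25] (1 <<< 0) (List.replicate 11 0) (Enum.done 4 [6, 8]) = true := by decide +kernel
theorem a7l3_fin {G : Type*} [Group G] {γ : ℕ → G} (hR : Holds (ext γ) a7l3_R) {H : Subgroup G}
    (hS : ∀ u ∈ a7l3_S0, ev (ext γ) u ∈ H) : a7l3_E.Fin γ H 4 [6, 8] :=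
  have hy : a7l3_E.Hyp γ H := Enum.hyp_of a7l3_v hR a7l3_p hS a7l3_f
  (Enum.fin_of_done hy (Enum.inv_init 11) a7l3_r0)
noncomputable def a7l4_n4 : Net := Net.cons 2 0x2 <|
  Net.cons 1 0x4 <|
  Net.cons 2 0x3 <|
  Net.nil
noncomputable def a7l4_ns : List Net := [Net.nil, Net.nil, Net.nil, Net.nil, a7l4_n4]
noncomputable def a7l4_R : List (List ℕ) := [[8, 8, 8]]
noncomputable def a7l4_S0 : List (List ℕ) := []
noncomputable def a7l4_E : Enum := ⟨a7l4_ns, a7l4_R, a7l4_S0, [], 0⟩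
theorem a7l4_v : validAll (2 ^ 3) a7l4_ns = true := by decide +kernel
theorem a7l4_p0 : holdsB 3 a7l4_ns a7l4_R = true := by decide +kernel
theorem a7l4_p : Holds (lp a7l4_ns) a7l4_R := holdsB_sound a7l4_v a7l4_p0
theorem a7l4_f : allL a7l4_E.Sub (fixN a7l4_E.ns a7l4_E.b0) = true := by decide +kernel
theorem a7l4_r0 : a7l4_E.run [34, 33, 38, 37, 0, 33] (1 <<< 0) (List.replicate 11 0) (Enum.done 3 [8]) = true := by decide +kernel
theorem a7l4_fin {G : Type*} [Group G] {γ : ℕ → G} (hR : Holds (ext γ) a7l4_R) {H : Subgroup G}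
    (hS : ∀ u ∈ a7l4_S0, ev (ext γ) u ∈ H) : a7l4_E.Fin γ H 3 [8] :=
  have hy : a7l4_E.Hyp γ H := Enum.hyp_of a7l4_v hR a7l4_p hS a7l4_f
  (Enum.fin_of_done hy (Enum.inv_init 11) a7l4_r0)
theorem a7bd4 {G : Type*} [Group G] {γ : ℕ → G} (hR : Holds (ext γ) a7RR) : Bd (gp γ [8]) 3 :=
  Bd.step (a7l4_fin (hR.subR (by decide +kernel)) (wordsIn_sound γ (L := []) (by decide +kernel))) (Bd.gp_nil γ) (by norm_num)
theorem a7bd3 {G : Type*} [Group G] {γ : ℕ → G} (hR : Holds (ext γ) a7RR) : Bd (gp γ [6, 8]) 12 :=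
  Bd.step (a7l3_fin (hR.subR (by decide +kernel)) (wordsIn_sound γ (L := [8]) (by decide +kernel))) (a7bd4 hR) (by norm_num)
theorem a7bd2 {G : Type*} [Group G] {γ : ℕ → G} (hR : Holds (ext γ) a7RR) : Bd (gp γ [4, 6, 8]) 60 :=
  Bd.step (a7l2_fin (hR.subR (by decide +kernel)) (wordsIn_sound γ (L := [6, 8]) (by decide +kernel))) (a7bd3 hR) (by norm_num)
theorem a7bd1 {G : Type*} [Group G] {γ : ℕ → G} (hR : Holds (ext γ) a7RR) : Bd (gp γ [2, 4, 6, 8]) 360 :=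
  Bd.step (a7l1_fin (hR.subR (by decide +kernel)) (wordsIn_sound γ (L := [4, 6, 8]) (by decide +kernel))) (a7bd2 hR) (by norm_num)
theorem a7bd0 {G : Type*} [Group G] {γ : ℕ → G} (hR : Holds (ext γ) a7RR) : Bd (gp γ [0, 2, 4, 6, 8]) 2520 :=
  Bd.step (a7l0_fin (hR.subR (by decide +kernel)) (wordsIn_sound γ (L := [2, 4, 6, 8]) (by decide +kernel))) (a7bd1 hR) (by norm_num)

end Cfsg.Agent.AltC
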