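import Cfsg.Agent.Mult.Slices
import Cfsg.Agent.Inv.Cent
import Cfsg.Agent.AltC.A7Pres

set_option autoImplicit false
set_option Elab.async false
set_option maxRecDepth 100000
set_option linter.all false

namespace Cfsg.Agent.AltC
open Cfsg.Agent.CGT

open Cfsg.Agent.Mult

noncomputable def a7_n0 : Net := Net.cons 4 0x4 <|
  Net.cons 2 0x2 <|
  Net.cons 1 0x4 <|
  Net.cons 2 0x3 <|
  Net.cons 4 0x4 <|
  Net.nil
noncomputable def a7_n1 : Net := Net.cons 1 0x1 <|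
  Net.cons 4 0x2 <|
  Net.nil
noncomputable def a7_n2 : Net := Net.cons 4 0x2 <|
  Net.cons 1 0x10 <|
  Net.cons 4 0x3 <|
  Net.nil
noncomputable def a7_n3 : Net := Net.cons 1 0x1 <|
  Net.cons 2 0x2 <|
  Net.nil
noncomputable def a7_n4 : Net := Net.cons 2 0x2 <|
  Net.cons 1 0x4 <|
  Net.cons 2 0x3 <|
  Net.nil
noncomputable def a7_ns : List Net := [a7_n0, a7_n1, a7_n2, a7_n3, a7_n4]
noncomputable def a7_R : List (List ℕ) := []
noncomputable def a7_t0 : Tab := (.leaf 0xe2c6b1)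
noncomputable def a7_t1 : Tab := (.leaf 0xe6c686)
noncomputable def a7_t2 : Tab := (.leaf 0xf846a9)
noncomputable def a7_t3 : Tab := (.leaf 0xf8c685)
noncomputable def a7_t4 : Tab := (.leaf 0xfa86a1)
noncomputable def a7_t5 : Tab := (.leaf 0xfa9684)
noncomputable def a7_t6 : Tab := (.leaf 0xfac099)
noncomputable def a7_t7 : Tab := (.leaf 0xfac283)
noncomputable def a7_t8 : Tab := (.leaf 0xfac611)
noncomputable def a7_t9 : Tab := (.leaf 0xfac642)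
noncomputable def a7_ts : List Tab := [a7_t0, a7_t1, a7_t2, a7_t3, a7_t4, a7_t5, a7_t6, a7_t7, a7_t8, a7_t9]
theorem a7_v : validAll (2 ^ 3) a7_ns = true := by decide +kernel
theorem a7_t0_b : Tab.beq (mkTab 3 0 a7_ns 0) a7_t0 = true := by decide +kernel
theorem a7_t1_b : Tab.beq (mkTab 3 0 a7_ns 1) a7_t1 = true := by decide +kernel
theorem a7_t2_b : Tab.beq (mkTab 3 0 a7_ns 2) a7_t2 = true := by decide +kernel
theorem a7_t3_b : Tab.beq (mkTab 3 0 a7_ns 3) a7_t3 = true := by decide +kernel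
theorem a7_t4_b : Tab.beq (mkTab 3 0 a7_ns 4) a7_t4 = true := by decide +kernel
theorem a7_t5_b : Tab.beq (mkTab 3 0 a7_ns 5) a7_t5 = true := by decide +kernel
theorem a7_t6_b : Tab.beq (mkTab 3 0 a7_ns 6) a7_t6 = true := by decide +kernel
theorem a7_t7_b : Tab.beq (mkTab 3 0 a7_ns 7) a7_t7 = true := by decide +kernel
theorem a7_t8_b : Tab.beq (mkTab 3 0 a7_ns 8) a7_t8 = true := by decide +kernel
theorem a7_t9_b : Tab.beq (mkTab 3 0 a7_ns 9) a7_t9 = true := by decide +kernel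
theorem a7_ts_ok : TabsOK 3 (lp a7_ns) a7_ts :=
  TabsFrom.ok ⟨TabOK.of_beq a7_v a7_t0_b,
    TabOK.of_beq a7_v a7_t1_b,
    TabOK.of_beq a7_v a7_t2_b,
    TabOK.of_beq a7_v a7_t3_b,
    TabOK.of_beq a7_v a7_t4_b,
    TabOK.of_beq a7_v a7_t5_b,
    TabOK.of_beq a7_v a7_t6_b,
    TabOK.of_beq a7_v a7_t7_b,
    TabOK.of_beq a7_v a7_t8_b,
    TabOK.of_beq a7_v a7_t9_b,
    Nat.le_of_ble_eq_true (by decide +kernel)⟩
noncomputable def a7c_l0 : Level := ⟨6, [[0], [2], [4], [6], [8]], [0, 0, 1, 2, 3, 4], 0x7f, 7⟩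
noncomputable def a7c_l1 : Level := ⟨5, [[2], [4], [6], [8]], [0, 0, 1, 2, 3], 0x3f, 6⟩
noncomputable def a7c_l2 : Level := ⟨4, [[4], [6], [8]], [0, 0, 1, 2], 0x1f, 5⟩
noncomputable def a7c_l3 : Level := ⟨3, [[6], [8]], [0, 0, 1], 0xf, 4⟩
noncomputable def a7c_l4 : Level := ⟨0, [[8]], [0, 0], 0x7, 3⟩
noncomputable def a7c_ls : List Level := [a7c_l0, a7c_l1, a7c_l2, a7c_l3, a7c_l4]
theorem a7c_l0_ok : (ptsOK 3 [] && (wordsIn [0, 2, 4, 6, 8] a7c_l0.S && a7c_l0.ok 3 a7_ns a7_ts [])) = true := by decide +kernel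
theorem a7c_l1_ok : (ptsOK 3 [6] && (wordsIn [0, 2, 4, 6, 8] a7c_l1.S && a7c_l1.ok 3 a7_ns a7_ts [6])) = true := by decide +kernel
theorem a7c_l2_ok : (ptsOK 3 [5, 6] && (wordsIn [0, 2, 4, 6, 8] a7c_l2.S && a7c_l2.ok 3 a7_ns a7_ts [5, 6])) = true := by decide +kernel
theorem a7c_l3_ok : (ptsOK 3 [4, 5, 6] && (wordsIn [0, 2, 4, 6, 8] a7c_l3.S && a7c_l3.ok 3 a7_ns a7_ts [4, 5, 6])) = true := by decide +kernel
theorem a7c_l4_ok : (ptsOK 3 [3, 4, 5, 6] && (wordsIn [0, 2, 4, 6, 8] a7c_l4.S && a7c_l4.ok 3 a7_ns a7_ts [3, 4, 5, 6])) = true := by decide +kernel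
theorem a7c_sound {G : Type*} [Group G] {φ : G →* Equiv.Perm ℕ} {γ : ℕ → G}
    (M : Model φ γ 3 a7_ns a7_ts) : ChainSound φ (gp γ [0, 2, 4, 6, 8]) 3 [] a7c_ls :=
  ⟨Level.ok_sound' M a7c_l0_ok,
   Level.ok_sound' M a7c_l1_ok,
   Level.ok_sound' M a7c_l2_ok,
   Level.ok_sound' M a7c_l3_ok,
   Level.ok_sound' M a7c_l4_ok, trivial⟩
noncomputable def a7_gs : List (alternatingGroup (Fin 7)) := [⟨⟨![1, 6, 2, 3, 4, 5, 0], ![6, 0, 2, 3, 4, 5, 1], by decide, by decide⟩, Equiv.Perm.mem_alternatingGroup.2 (by decide +kernel)⟩,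
  ⟨⟨![1, 5, 2, 3, 4, 0, 6], ![5, 0, 2, 3, 4, 1, 6], by decide, by decide⟩, Equiv.Perm.mem_alternatingGroup.2 (by decide +kernel)⟩,
  ⟨⟨![1, 4, 2, 3, 0, 5, 6], ![4, 0, 2, 3, 1, 5, 6], by decide, by decide⟩, Equiv.Perm.mem_alternatingGroup.2 (by decide +kernel)⟩,
  ⟨⟨![1, 3, 2, 0, 4, 5, 6], ![3, 0, 2, 1, 4, 5, 6], by decide, by decide⟩, Equiv.Perm.mem_alternatingGroup.2 (by decide +kernel)⟩,
  ⟨⟨![1, 2, 0, 3, 4, 5, 6], ![2, 0, 1, 3, 4, 5, 6], by decide, by decide⟩, Equiv.Perm.mem_alternatingGroup.2 (by decide +kernel)⟩]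
theorem a7_card : Nat.card (alternatingGroup (Fin 7)) = 2520 := by
  have := two_mul_nat_card_alternatingGroup (α := Fin 7)
  rw [Nat.card_perm, Nat.card_fin] at this
  simp only [Nat.factorial] at this
  omega
theorem a7_cert : ∃ φ, CGT.Cert φ (fun j => a7_gs.getD j 1) 3 a7_ns a7_ts [0, 2, 4, 6, 8] a7c_ls :=
  Inv.cert_of_act (Fin.ofNat 7) (N := 7) (by decide) a7_v a7_ts_ok rfl (by decide +kernel) (by decide +kernel) a7c_sound
    ⟨inferInstance, a7_card.le⟩ (by decide +kernel)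
noncomputable def a7u2_D : PC := ⟨2, 3, 2, 18,
  [[0, 0x14, 0x10], [0, 0, 0x10], [0, 0, 0]],
  [3, 0, 0],
  [(3, 1, 0x10), (4, 4, 0x10)], 7, 0x2000001⟩
noncomputable def a7u2_ds : List (List ℕ) := [[4, 2], [3, 9, 5, 7, 8, 2], [3, 4, 3], [6, 1, 8, 7, 5, 2], [2, 6, 4, 3, 8]]
noncomputable def a7u2_c : Mult.Cert := ⟨14, 15, [[], [], [1]],
  [([5], 1, 0x300)],
  [[0x15, 0, 0x19], [0, 0x13, 1], [0, 0, 0x11]]⟩
theorem a7u2_all : allB a7u2_D a7u2_c [.assoc 0x10 4 4, .assoc 4 4 1, .assoc 4 1 1, .fus 3 [0, 0] [], .fus 4 [1, 1] []] 3 a7_ts a7u2_ds [0, 3, 4, 5, 6] [(2, [4]), (0, [0x10, 1])] = true := by decide +kernel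
theorem a7u2_pb {G : Type*} [Group G] [Finite G] {φ : G →* Equiv.Perm ℕ} {γ : ℕ → G}
    (M : Model φ γ 3 a7_ns a7_ts) (hB : IsBase φ ⊤ [0, 3, 4, 5, 6]) (hN : Nat.card G = 2520) : PBound G 2 1 :=
  pbound_all M hB hN (by decide +kernel) (by decide +kernel) a7u2_all
noncomputable def a7u3_D : PC := ⟨3, 2, 2, 21,
  [[0, 4], [0, 0]],
  [0, 0],
  [(2, 1, 8), (2, 4, 1)], 5, 0x10001⟩
noncomputable def a7u3_ds : List (List ℕ) := [[1, 4, 3, 0], [8], [3, 0, 9, 0, 4]]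
noncomputable def a7u3_c : Mult.Cert := ⟨11, 17, [[], []],
  [([1], 1, 0x288)],
  [[0x15, 2], [0, 0xc]]⟩
theorem a7u3_all : allB a7u3_D a7u3_c [.assoc 8 4 1, .fus 2 [1, 1, 1] [], .fus 2 [0, 0, 0] []] 3 a7_ts a7u3_ds [0, 3, 4, 5, 6] [(0, [4]), (4, [1])] = true := by decide +kernel
theorem a7u3_pb {G : Type*} [Group G] [Finite G] {φ : G →* Equiv.Perm ℕ} {γ : ℕ → G}
    (M : Model φ γ 3 a7_ns a7_ts) (hB : IsBase φ ⊤ [0, 3, 4, 5, 6]) (hN : Nat.card G = 2520) : PBound G 3 1 :=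
  pbound_all M hB hN (by decide +kernel) (by decide +kernel) a7u3_all

end Cfsg.Agent.AltC
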