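import Cfsg.Agent.Mult.Slices
import Cfsg.Agent.AltC.A7PresR

set_option autoImplicit false
set_option Elab.async false
set_option maxRecDepth 100000
set_option linter.all false

namespace Cfsg.Agent.AltC
open Cfsg.Agent.CGT

open Cfsg.Agent.Mult

noncomputable def a7c2_n0 : Net := Net.cons 64 0xf8064b5d15e41f88 <|
  Net.cons 32 0xd32dbc6000000000a337a5fa <|
  Net.cons 16 0x6ec00000924000001e720000becc <|
  Net.cons 8 0x700022001c00ac001a008e00800082 <|
  Net.cons 4 0x80008000200080a020402080c000e08 <|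
  Net.cons 2 0x20200020002200020200020220200 <|
  Net.cons 1 0x55511114541011451015450415445110 <|
  Net.cons 2 0x3332202003222200333020002320221 <|
  Net.cons 4 0xc040001080b00000b01000a0d03060d <|
  Net.cons 8 0x8d00fa00ea00dd009100ce00710082 <|
  Net.cons 16 0x3d7d0000e2e300003a8f0000f925 <|
  Net.cons 32 0xfb29ade400000000a725e33f <|
  Net.cons 64 0xf85108b779eb0384 <|
  Net.nil
noncomputable def a7c2_n1 : Net := Net.cons 64 0xffe351c786b19078 <|
  Net.cons 32 0x9e27289c00000000208e26d4 <|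
  Net.cons 16 0x48460000efba000025fe000098b2 <|
  Net.cons 8 0xd0004800120042006800ea007800ca <|
  Net.cons 4 0xc000e0008020002040e080e00080400 <|
  Net.cons 2 0x20000220020002222000000020202220 <|
  Net.cons 1 0x45150115010141114401405015114140 <|
  Net.cons 2 0x30033212033311302112222330223010 <|
  Net.cons 4 0x1020e0d010f0c02040d0205030c0b0d <|
  Net.cons 8 0xab006600da0077004800b8007600fd <|
  Net.cons 16 0x4571000013c9000005d300000381 <|
  Net.cons 32 0x38e5a4b300000000202f67bf <|
  Net.cons 64 0xff96123c63b34ab4 <|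
  Net.nil
noncomputable def a7c2_n2 : Net := Net.cons 64 0x11cd50e2693e4fc0 <|
  Net.cons 32 0x71b8bd3400000000a79d2fd2 <|
  Net.cons 16 0xa4120000470c0000df6800008000 <|
  Net.cons 8 0x80001800a2004c00b000a000060010 <|
  Net.cons 4 0xe0808060a060a040e08000e08020a <|
  Net.cons 2 0x200020222022000022002000220200 <|
  Net.cons 1 0x40145111144441154541014540110150 <|
  Net.cons 2 0x30001032132113032110032212100113 <|
  Net.cons 4 0x107080f0006080007070207060c050b <|
  Net.cons 8 0x550042002f006f00380060002e0028 <|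
  Net.cons 16 0xb4290000d18300005e210000641e <|
  Net.cons 32 0x7126a9e7000000006b99dca4 <|
  Net.cons 64 0x11e1d446c669486a <|
  Net.nil
noncomputable def a7c2_n3 : Net := Net.cons 64 0xfe20787803cf1580 <|
  Net.cons 32 0x6cd42f6600000000bc473792 <|
  Net.cons 16 0x106400000708000085e00000ec6a <|
  Net.cons 8 0xc6007000d00070001200c000860000 <|
  Net.cons 4 0x6000408060a02080804040000000004 <|
  Net.cons 2 0x22020202220002200200200000020 <|
  Net.cons 1 0x40514110441145151400140100010015 <|
  Net.cons 2 0x30130010030320122201012322310032 <|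
  Net.cons 4 0xe050d0f030e020101080c090e00010b <|
  Net.cons 8 0x52000a00e0001000a2002200ed0051 <|
  Net.cons 16 0x56500000e069000098600000ada7 <|
  Net.cons 32 0xa4c37a9e00000000bd4fec0b <|
  Net.cons 64 0xfe44257ba8670518 <|
  Net.nil
noncomputable def a7c2_n4 : Net := Net.cons 64 0xfbfbcaeb42b76ed4 <|
  Net.cons 32 0x76cb1ea0000000008668c7c0 <|
  Net.cons 16 0x56180000a7f80000ddb20000a192 <|
  Net.cons 8 0x760012009e00c4003000a000e6004a <|
  Net.cons 4 0xc04080c0804000c040c08080c0c080a <|
  Net.cons 2 0x202022000000220000000000000220 <|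
  Net.cons 1 0x41401141051451145001001415404411 <|
  Net.cons 2 0x12222201232321202312021032201202 <|
  Net.cons 4 0x10e0e0e06010d0d070c0a0e090d0d02 <|
  Net.cons 8 0xd009100ba008c00b6002400630058 <|
  Net.cons 16 0xfcc70000bc1500005f1c00009c64 <|
  Net.cons 32 0xd4542b030000000082a1b4ce <|
  Net.cons 64 0xfb580976923fe902 <|
  Net.nil
noncomputable def a7c2_ns : List Net := [a7c2_n0, a7c2_n1, a7c2_n2, a7c2_n3, a7c2_n4]
theorem a7c2_v : validAll (2 ^ 7) a7c2_ns = true := by decide +kernel
noncomputable def a7c2_C : List (ℕ × ℕ) := [(0x3dffd1e3488dccdb91c0e0f7536fbc, 0x0),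
  (0xd9ec9d1deb1a79948feaeea73be538, 0x0),
  (0x2f647293c72faf5225541c3788e30, 0x0),
  (0x1742b1e0a56ef3b89c749405018920, 0x0),
  (0x8c94365fa55c806661298000024000, 0x0)]
noncomputable def a7c2_U : ℕ := Nat.sub (Nat.pow 2 120) 1
noncomputable def a7c2_a : List ℕ := [0, 0, 1, 0, 1, 1, 0, 1, 1, 1, 0, 1, 1, 1, 1]

end Cfsg.Agent.AltC
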